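import Groth.Prelude.Def_SpSeq
import Mathlib.Data.Int.Interval

/-! # The spectral sequence with given exact rows on the first page, degenerating at the second -/

set_option autoImplicit false
set_option linter.style.haveILetI false

universe v u

open CategoryTheory CategoryTheory.Limits

noncomputable section

namespace Groth.Agent.SpSeqDeg16

variable {C : Type u} [Category.{v} C] [Abelian C]

/-- The differentials of the first page. -/
def dOne (R : ℤ → CochainComplex C ℤ) (pq pq' : ℤ × ℤ) : (R pq.2).X pq.1 ⟶ (R pq'.2).X pq'.1 :=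
  if h : pq.2 = pq'.2 then (R pq.2).d pq.1 pq'.1 ≫ eqToHom (by rw [h]) else 0

theorem dOne_mk (R : ℤ → CochainComplex C ℤ) (p p' q : ℤ) : dOne R (p, q) (p', q) = (R q).d p p' := by
  simp [dOne]

/-- The first page. -/
def pageOne (R : ℤ → CochainComplex C ℤ) : HomologicalComplex C (ComplexShape.up' ((1, 1 - 1) : ℤ × ℤ)) where
  X pq := (R pq.2).X pq.1
  d pq pq' := dOne R pq pq'
  shape pq pq' h := by
    obtain ⟨p, q⟩ := pq
    obtain ⟨p', q'⟩ := pq'
    by_cases hq : q = q'
    · subst hq
      rw [dOne_mk]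
      refine (R q).shape _ _ fun hp => h ?_
      change (p, q) + (1, 1 - 1) = (p', q)
      change p + 1 = p' at hp
      rw [Prod.mk_add_mk, ← hp]
      simp
    · exact dif_neg hq
  d_comp_d' := fun ⟨p, q⟩ ⟨p', q'⟩ ⟨p'', q''⟩ h h' => by
    change (p, q) + (1, 1 - 1) = (p', q') at h
    change (p', q') + (1, 1 - 1) = (p'', q'') at h'
    simp only [Prod.mk_add_mk, Prod.mk.injEq, sub_self, add_zero] at h h'
    obtain ⟨-, rfl⟩ := h
    obtain ⟨-, rfl⟩ := h'
    rw [dOne_mk, dOne_mk, (R q).d_comp_d]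

/-- The homology of the first page is the homology of the rows. -/
def homologyPageOne (R : ℤ → CochainComplex C ℤ) (p q : ℤ) :
    (pageOne R).homology (p, q) ≅ (R q).homology p := by
  refine (pageOne R).homologyIsoSc' (p - 1, q) (p, q) (p + 1, q) ?_ ?_ ≪≫ ?_ ≪≫
    ((R q).homologyIsoSc' (p - 1) p (p + 1) (by simp) (by simp)).symm
  · refine (ComplexShape.up' _).prev_eq' ?_
    change (p - 1, q) + (1, 1 - 1) = (p, q)
    simp
  · refine (ComplexShape.up' _).next_eq' ?_
    change (p, q) + (1, 1 - 1) = (p + 1, q)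
    simp
  · have i : (pageOne R).sc' (p - 1, q) (p, q) (p + 1, q) ≅ (R q).sc' (p - 1) p (p + 1) :=
      ShortComplex.isoMk (Iso.refl _) (Iso.refl _) (Iso.refl _) (by
          show 𝟙 _ ≫ (R q).d (p - 1) p = dOne R (p - 1, q) (p, q) ≫ 𝟙 _
          rw [dOne_mk]
          exact (Category.id_comp _).trans (Category.comp_id _).symm)
        (by
          show 𝟙 _ ≫ (R q).d p (p + 1) = dOne R (p, q) (p + 1, q) ≫ 𝟙 _
          rw [dOne_mk]
          exact (Category.id_comp _).trans (Category.comp_id _).symm)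
    exact ShortComplex.homologyMapIso i

/-- A page with vanishing differentials. -/
def pageZero (X : ℤ × ℤ → C) (r : ℤ) : HomologicalComplex C (ComplexShape.up' ((r, 1 - r) : ℤ × ℤ)) where
  X := X
  d _ _ := 0

/-- All pages. -/
def pages (R : ℤ → CochainComplex C ℤ) (r : ℤ) : HomologicalComplex C (ComplexShape.up' ((r, 1 - r) : ℤ × ℤ)) :=
  if h : r = 1 then h ▸ pageOne R else pageZero (fun pq => (R pq.2).homology pq.1) r

theorem pages_one (R : ℤ → CochainComplex C ℤ) : pages R 1 = pageOne R := dif_pos rfl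

theorem pages_ne (R : ℤ → CochainComplex C ℤ) (r : ℤ) (h : r ≠ 1) :
    pages R r = pageZero (fun pq => (R pq.2).homology pq.1) r := dif_neg h

/-- The homology of a page with zero differentials. -/
def homologyPageZero (X : ℤ × ℤ → C) (r : ℤ) (pq : ℤ × ℤ) : (pageZero X r).homology pq ≅ X pq :=
  ((ShortComplex.HomologyData.ofZeros ((pageZero X r).sc pq) rfl rfl).left).homologyIso

/-- The spectral sequence with rows `R`, degenerate from the second page. -/
def spSeq (R : ℤ → CochainComplex C ℤ) : CohomologicalSpectralSequence C 1 where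
  page r _ := pages R r
  iso r r' pq hrr' _ := by
    by_cases h : r = 1
    · subst h
      refine eqToIso (by rw [pages_one]) ≪≫ homologyPageOne R pq.1 pq.2 ≪≫
        eqToIso (by rw [pages_ne R r' (by omega)]; rfl)
    · refine eqToIso (by rw [pages_ne R r h]) ≪≫ homologyPageZero (fun pq => (R pq.2).homology pq.1) r pq ≪≫
        eqToIso (by rw [pages_ne R r' (by omega)]; rfl)

theorem subquot_self_bot {X : C} : Nonempty (SpSeq.subquot (⊤ : Subobject X) ⊥ bot_le ≅ X) := by
  have h : (⊥ : Subobject X).ofLE ⊤ bot_le = 0 := by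
    rw [← cancel_mono (⊤ : Subobject X).arrow, Subobject.ofLE_arrow, zero_comp, Subobject.bot_arrow]
  exact ⟨cokernelIsoOfEq h ≪≫ cokernelZeroIsoTarget ≪≫ asIso (⊤ : Subobject X).arrow⟩

theorem isZero_subquot_self {X : C} (S : Subobject X) (h : S ≤ S) : IsZero (SpSeq.subquot S S h) := by
  haveI : Epi (S.ofLE S h) := by rw [Subobject.ofLE_refl]; infer_instance
  exact IsZero.of_iso (isZero_zero C) (cokernel.ofEpi _)

/-- **Degenerate first quadrant spectral sequences**: exact rows give a bounded spectral sequence with finite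
abutment. -/
theorem exists_degenerate (R : ℤ → CochainComplex C ℤ) (hneg : ∀ p q : ℤ, p < 0 ∨ q < 0 → IsZero ((R q).X p))
    (hex : ∀ q p : ℤ, p ≠ 0 → IsZero ((R q).homology p)) (H : ℤ → C) (e : ∀ q, (R q).homology 0 ≅ H q) :
    ∃ (E : CohomologicalSpectralSequence C 1) (a : SpSeq.Abutment E H),
      (∀ n, a.IsFinite n) ∧ SpSeq.IsBounded E ∧
      ∀ p q : ℤ, Nonempty ((E.page 1 le_rfl).X (p, q) ≅ (R q).X p) := by
  classical
  let fil : ∀ n, ℤ → Subobject (H n) := fun n p => if p ≤ 0 then ⊤ else ⊥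
  have anti : ∀ n, Antitone (fil n) := fun n a b hab => by
    by_cases hb : b ≤ 0
    · simp [fil, hb, le_trans hab hb]
    · simp [fil, hb]
  have hX : ∀ pq, ((spSeq R).page 2 (by omega)).X pq = (R pq.2).homology pq.1 := fun pq => by
    show (pages R 2).X pq = _
    rw [pages_ne R 2 (by omega)]
    rfl
  have hgr : ∀ pq : ℤ × ℤ, Nonempty ((R pq.2).homology pq.1 ≅
      SpSeq.grPiece (fil (pq.1 + pq.2)) (anti _) pq.1) := by
    rintro ⟨p, q⟩
    by_cases hp : p = 0
    · subst hp
      have key : ∀ n, n = q → Nonempty ((R q).homology 0 ≅ SpSeq.grPiece (fil n) (anti n) 0) := by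
        rintro n rfl
        have h0 : fil n 0 = ⊤ := if_pos le_rfl
        have h1 : fil n (0 + 1) = ⊥ := if_neg (by omega)
        obtain ⟨i⟩ := subquot_self_bot (X := H n)
        refine ⟨e n ≪≫ i.symm ≪≫ eqToIso ?_⟩
        simp only [SpSeq.grPiece, h0, h1]
      exact key _ (zero_add q)
    · have h1 : fil (p + q) p = fil (p + q) (p + 1) := by
        simp only [fil]
        split_ifs <;> first | rfl | omega
      have key : ∀ (S T : Subobject (H (p + q))) (h : T ≤ S), S = T → IsZero (SpSeq.subquot S T h) := by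
        rintro S T h rfl
        exact isZero_subquot_self _ _
      exact ⟨IsZero.iso (hex q p hp) (key _ _ _ h1)⟩
  refine ⟨spSeq R, ⟨fil, anti, fun _ => 2, fun pq => ⟨by omega, fun r' h₀ hr => ?_⟩, fun pq =>
    eqToIso (hX pq) ≪≫ (hgr pq).some⟩, fun n => ⟨⟨0, show fil n 0 = ⊤ from if_pos le_rfl⟩, ⟨1, show fil n 1 = ⊥ from if_neg (by omega)⟩⟩, fun n => ?_,
    fun p q => ⟨eqToIso (by show (pages R 1).X (p, q) = _; rw [pages_one]; rfl)⟩⟩
  · have h : ∀ a b, (pages R r').d a b = 0 := fun a b => by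
      rw [pages_ne R r' (by omega)]
      rfl
    exact ⟨h _ _, h _ _⟩
  · refine (Set.finite_Icc (0 : ℤ) n).subset fun p hp => ?_
    by_contra hc
    refine hp ?_
    have : IsZero ((R (n - p)).X p) := hneg p (n - p) (by simp [Set.mem_Icc] at hc; omega)
    exact this.of_iso (eqToIso (by show (pages R 1).X (p, n - p) = _; rw [pages_one]; rfl))

end Groth.Agent.SpSeqDeg16
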